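import Cfsg.Agent.Lib.Helper57.J3Mult.U4.Defs

set_option autoImplicit false
set_option linter.unusedVariables false
set_option Elab.async false

namespace Cfsg.Agent.Lib.Helper57.J3Mult.U4

open Cfsg.Agent.Lib.Helper28.TC Cfsg.Agent.Lib.Helper28.TC2 Cfsg.Agent.Lib.Helper57.TCW

theorem F_blk26 : allRange (D.factP) 7 (26 * 2 ^ 7) = true := by decide +kernel
theorem F_blk27 : allRange (D.factP) 7 (27 * 2 ^ 7) = true := by decide +kernel
theorem F_blk28 : allRange (D.factP) 7 (28 * 2 ^ 7) = true := by decide +kernel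
theorem F_blk29 : allRange (D.factP) 7 (29 * 2 ^ 7) = true := by decide +kernel
theorem F_blk30 : allRange (D.factP) 7 (30 * 2 ^ 7) = true := by decide +kernel
theorem F_blk31 : allRange (D.factP) 7 (31 * 2 ^ 7) = true := by decide +kernel
theorem F_blk32 : allRange (D.factP) 7 (32 * 2 ^ 7) = true := by decide +kernel
theorem F_blk33 : allRange (D.factP) 7 (33 * 2 ^ 7) = true := by decide +kernel
theorem F_blk34 : allRange (D.factP) 7 (34 * 2 ^ 7) = true := by decide +kernel
theorem F_blk35 : allRange (D.factP) 7 (35 * 2 ^ 7) = true := by decide +kernel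
theorem F_blk36 : allRange (D.factP) 7 (36 * 2 ^ 7) = true := by decide +kernel
theorem F_blk37 : allRange (D.factP) 7 (37 * 2 ^ 7) = true := by decide +kernel
theorem F_blk38 : allRange (D.factP) 7 (38 * 2 ^ 7) = true := by decide +kernel
theorem F_blk39 : allRange (D.factP) 7 (39 * 2 ^ 7) = true := by decide +kernel
theorem F_blk40 : allRange (D.factP) 7 (40 * 2 ^ 7) = true := by decide +kernel
theorem F_blk41 : allRange (D.factP) 7 (41 * 2 ^ 7) = true := by decide +kernel
theorem F_blk42 : allRange (D.factP) 7 (42 * 2 ^ 7) = true := by decide +kernel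
theorem F_blk43 : allRange (D.factP) 7 (43 * 2 ^ 7) = true := by decide +kernel
theorem F_blk44 : allRange (D.factP) 7 (44 * 2 ^ 7) = true := by decide +kernel
theorem F_blk45 : allRange (D.factP) 7 (45 * 2 ^ 7) = true := by decide +kernel
theorem F_blk46 : allRange (D.factP) 7 (46 * 2 ^ 7) = true := by decide +kernel
theorem F_blk47 : allRange (D.factP) 7 (47 * 2 ^ 7) = true := by decide +kernel
theorem F_blk48 : allRange (D.factP) 7 (48 * 2 ^ 7) = true := by decide +kernel
theorem F_blk49 : allRange (D.factP) 7 (49 * 2 ^ 7) = true := by decide +kernel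
theorem F_blk50 : allRange (D.factP) 7 (50 * 2 ^ 7) = true := by decide +kernel
theorem F_blk51 : allRange (D.factP) 7 (51 * 2 ^ 7) = true := by decide +kernel
theorem F_f1 : ∀ k, 26 ≤ k → k < 52 → allRange (D.factP) 7 (k * 2 ^ 7) = true := by
  intro k h1 h2
  interval_cases k
  · exact F_blk26
  · exact F_blk27
  · exact F_blk28
  · exact F_blk29
  · exact F_blk30
  · exact F_blk31
  · exact F_blk32
  · exact F_blk33
  · exact F_blk34
  · exact F_blk35
  · exact F_blk36
  · exact F_blk37
  · exact F_blk38
  · exact F_blk39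
  · exact F_blk40
  · exact F_blk41
  · exact F_blk42
  · exact F_blk43
  · exact F_blk44
  · exact F_blk45
  · exact F_blk46
  · exact F_blk47
  · exact F_blk48
  · exact F_blk49
  · exact F_blk50
  · exact F_blk51

end Cfsg.Agent.Lib.Helper57.J3Mult.U4
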