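import Cfsg.Agent.Lib.Helper57.J3Mult.U4.Defs

set_option autoImplicit false
set_option linter.unusedVariables false
set_option Elab.async false

namespace Cfsg.Agent.Lib.Helper57.J3Mult.U4

open Cfsg.Agent.Lib.Helper28.TC Cfsg.Agent.Lib.Helper28.TC2 Cfsg.Agent.Lib.Helper57.TCW

theorem F_blk52 : allRange (D.factP) 7 (52 * 2 ^ 7) = true := by decide +kernel
theorem F_blk53 : allRange (D.factP) 7 (53 * 2 ^ 7) = true := by decide +kernel
theorem F_blk54 : allRange (D.factP) 7 (54 * 2 ^ 7) = true := by decide +kernel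
theorem F_blk55 : allRange (D.factP) 7 (55 * 2 ^ 7) = true := by decide +kernel
theorem F_blk56 : allRange (D.factP) 7 (56 * 2 ^ 7) = true := by decide +kernel
theorem F_blk57 : allRange (D.factP) 7 (57 * 2 ^ 7) = true := by decide +kernel
theorem F_blk58 : allRange (D.factP) 7 (58 * 2 ^ 7) = true := by decide +kernel
theorem F_blk59 : allRange (D.factP) 7 (59 * 2 ^ 7) = true := by decide +kernel
theorem F_blk60 : allRange (D.factP) 7 (60 * 2 ^ 7) = true := by decide +kernel
theorem F_blk61 : allRange (D.factP) 7 (61 * 2 ^ 7) = true := by decide +kernel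
theorem F_blk62 : allRange (D.factP) 7 (62 * 2 ^ 7) = true := by decide +kernel
theorem F_blk63 : allRange (D.factP) 7 (63 * 2 ^ 7) = true := by decide +kernel
theorem F_blk64 : allRange (D.factP) 7 (64 * 2 ^ 7) = true := by decide +kernel
theorem F_blk65 : allRange (D.factP) 7 (65 * 2 ^ 7) = true := by decide +kernel
theorem F_blk66 : allRange (D.factP) 7 (66 * 2 ^ 7) = true := by decide +kernel
theorem F_blk67 : allRange (D.factP) 7 (67 * 2 ^ 7) = true := by decide +kernel
theorem F_blk68 : allRange (D.factP) 7 (68 * 2 ^ 7) = true := by decide +kernel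
theorem F_blk69 : allRange (D.factP) 7 (69 * 2 ^ 7) = true := by decide +kernel
theorem F_blk70 : allRange (D.factP) 7 (70 * 2 ^ 7) = true := by decide +kernel
theorem F_blk71 : allRange (D.factP) 7 (71 * 2 ^ 7) = true := by decide +kernel
theorem F_blk72 : allRange (D.factP) 7 (72 * 2 ^ 7) = true := by decide +kernel
theorem F_blk73 : allRange (D.factP) 7 (73 * 2 ^ 7) = true := by decide +kernel
theorem F_blk74 : allRange (D.factP) 7 (74 * 2 ^ 7) = true := by decide +kernel
theorem F_blk75 : allRange (D.factP) 7 (75 * 2 ^ 7) = true := by decide +kernel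
theorem F_blk76 : allRange (D.factP) 7 (76 * 2 ^ 7) = true := by decide +kernel
theorem F_blk77 : allRange (D.factP) 7 (77 * 2 ^ 7) = true := by decide +kernel
theorem F_f2 : ∀ k, 52 ≤ k → k < 78 → allRange (D.factP) 7 (k * 2 ^ 7) = true := by
  intro k h1 h2
  interval_cases k
  · exact F_blk52
  · exact F_blk53
  · exact F_blk54
  · exact F_blk55
  · exact F_blk56
  · exact F_blk57
  · exact F_blk58
  · exact F_blk59
  · exact F_blk60
  · exact F_blk61
  · exact F_blk62
  · exact F_blk63
  · exact F_blk64
  · exact F_blk65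
  · exact F_blk66
  · exact F_blk67
  · exact F_blk68
  · exact F_blk69
  · exact F_blk70
  · exact F_blk71
  · exact F_blk72
  · exact F_blk73
  · exact F_blk74
  · exact F_blk75
  · exact F_blk76
  · exact F_blk77

end Cfsg.Agent.Lib.Helper57.J3Mult.U4
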