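import Cfsg.Agent.Lib.Helper57.J3Mult.U4.Defs

set_option autoImplicit false
set_option linter.unusedVariables false
set_option Elab.async false

namespace Cfsg.Agent.Lib.Helper57.J3Mult.U4

open Cfsg.Agent.Lib.Helper28.TC Cfsg.Agent.Lib.Helper28.TC2 Cfsg.Agent.Lib.Helper57.TCW

theorem F_blk78 : allRange (D.factP) 7 (78 * 2 ^ 7) = true := by decide +kernel
theorem F_blk79 : allRange (D.factP) 7 (79 * 2 ^ 7) = true := by decide +kernel
theorem F_blk80 : allRange (D.factP) 7 (80 * 2 ^ 7) = true := by decide +kernel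
theorem F_blk81 : allRange (D.factP) 7 (81 * 2 ^ 7) = true := by decide +kernel
theorem F_blk82 : allRange (D.factP) 7 (82 * 2 ^ 7) = true := by decide +kernel
theorem F_blk83 : allRange (D.factP) 7 (83 * 2 ^ 7) = true := by decide +kernel
theorem F_blk84 : allRange (D.factP) 7 (84 * 2 ^ 7) = true := by decide +kernel
theorem F_blk85 : allRange (D.factP) 7 (85 * 2 ^ 7) = true := by decide +kernel
theorem F_blk86 : allRange (D.factP) 7 (86 * 2 ^ 7) = true := by decide +kernel
theorem F_blk87 : allRange (D.factP) 7 (87 * 2 ^ 7) = true := by decide +kernel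
theorem F_blk88 : allRange (D.factP) 7 (88 * 2 ^ 7) = true := by decide +kernel
theorem F_blk89 : allRange (D.factP) 7 (89 * 2 ^ 7) = true := by decide +kernel
theorem F_blk90 : allRange (D.factP) 7 (90 * 2 ^ 7) = true := by decide +kernel
theorem F_blk91 : allRange (D.factP) 7 (91 * 2 ^ 7) = true := by decide +kernel
theorem F_blk92 : allRange (D.factP) 7 (92 * 2 ^ 7) = true := by decide +kernel
theorem F_blk93 : allRange (D.factP) 7 (93 * 2 ^ 7) = true := by decide +kernel
theorem F_blk94 : allRange (D.factP) 7 (94 * 2 ^ 7) = true := by decide +kernel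
theorem F_blk95 : allRange (D.factP) 7 (95 * 2 ^ 7) = true := by decide +kernel
theorem F_blk96 : allRange (D.factP) 7 (96 * 2 ^ 7) = true := by decide +kernel
theorem F_blk97 : allRange (D.factP) 7 (97 * 2 ^ 7) = true := by decide +kernel
theorem F_blk98 : allRange (D.factP) 7 (98 * 2 ^ 7) = true := by decide +kernel
theorem F_blk99 : allRange (D.factP) 7 (99 * 2 ^ 7) = true := by decide +kernel
theorem F_blk100 : allRange (D.factP) 7 (100 * 2 ^ 7) = true := by decide +kernel
theorem F_blk101 : allRange (D.factP) 7 (101 * 2 ^ 7) = true := by decide +kernel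
theorem F_f3 : ∀ k, 78 ≤ k → k < 102 → allRange (D.factP) 7 (k * 2 ^ 7) = true := by
  intro k h1 h2
  interval_cases k
  · exact F_blk78
  · exact F_blk79
  · exact F_blk80
  · exact F_blk81
  · exact F_blk82
  · exact F_blk83
  · exact F_blk84
  · exact F_blk85
  · exact F_blk86
  · exact F_blk87
  · exact F_blk88
  · exact F_blk89
  · exact F_blk90
  · exact F_blk91
  · exact F_blk92
  · exact F_blk93
  · exact F_blk94
  · exact F_blk95
  · exact F_blk96
  · exact F_blk97
  · exact F_blk98
  · exact F_blk99
  · exact F_blk100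
  · exact F_blk101

end Cfsg.Agent.Lib.Helper57.J3Mult.U4
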