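import Cfsg.Agent.Lib.Helper57.J3Mult.U4.Defs

set_option autoImplicit false
set_option linter.unusedVariables false
set_option Elab.async false

namespace Cfsg.Agent.Lib.Helper57.J3Mult.U4

open Cfsg.Agent.Lib.Helper28.TC Cfsg.Agent.Lib.Helper28.TC2 Cfsg.Agent.Lib.Helper57.TCW

theorem P_blk12 : allRange (guard nn D.permP) 7 (12 * 2 ^ 7) = true := by decide +kernel
theorem P_blk13 : allRange (guard nn D.permP) 7 (13 * 2 ^ 7) = true := by decide +kernel
theorem P_blk14 : allRange (guard nn D.permP) 7 (14 * 2 ^ 7) = true := by decide +kernel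
theorem P_blk15 : allRange (guard nn D.permP) 7 (15 * 2 ^ 7) = true := by decide +kernel
theorem P_blk16 : allRange (guard nn D.permP) 7 (16 * 2 ^ 7) = true := by decide +kernel
theorem P_blk17 : allRange (guard nn D.permP) 7 (17 * 2 ^ 7) = true := by decide +kernel
theorem P_f2 : ∀ k, 12 ≤ k → k < 18 → allRange (guard nn D.permP) 7 (k * 2 ^ 7) = true := by
  intro k h1 h2
  interval_cases k
  · exact P_blk12
  · exact P_blk13
  · exact P_blk14
  · exact P_blk15
  · exact P_blk16
  · exact P_blk17

end Cfsg.Agent.Lib.Helper57.J3Mult.U4
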