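import Cfsg.Agent.Lib.Helper57.J3Mult.U4.ChkF0
import Cfsg.Agent.Lib.Helper57.J3Mult.U4.ChkF1
import Cfsg.Agent.Lib.Helper57.J3Mult.U4.ChkF2
import Cfsg.Agent.Lib.Helper57.J3Mult.U4.ChkF3
import Cfsg.Agent.Lib.Helper57.J3Mult.U4.ChkP0
import Cfsg.Agent.Lib.Helper57.J3Mult.U4.ChkP1
import Cfsg.Agent.Lib.Helper57.J3Mult.U4.ChkP2
import Cfsg.Agent.Lib.Helper57.J3Mult.U4.ChkP3
import Cfsg.Agent.Lib.Helper57.J3Mult.U4.ChkC0
import Cfsg.Agent.Lib.Helper57.J3Mult.U4.ChkC1
import Cfsg.Agent.Lib.Helper57.J3Mult.U4.ChkC2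
import Cfsg.Agent.Lib.Helper57.J3Mult.U4.ChkC3

set_option autoImplicit false
set_option linter.unusedVariables false

namespace Cfsg.Agent.Lib.Helper57.J3Mult.U4

open Cfsg.Agent.Lib.Helper28.TC Cfsg.Agent.Lib.Helper28.TC2 Cfsg.Agent.Lib.Helper57.TCW

theorem F_allk : ∀ k, k < 102 → allRange (D.factP) 7 (k * 2 ^ 7) = true := by
  intro k hk
  by_cases h0 : k < 26
  · exact F_f0 k (by omega) h0
  by_cases h1 : k < 52
  · exact F_f1 k (by omega) h1
  by_cases h2 : k < 78
  · exact F_f2 k (by omega) h2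
  by_cases h3 : k < 102
  · exact F_f3 k (by omega) h3
  omega
theorem P_allk : ∀ k, k < 23 → allRange (guard nn D.permP) 7 (k * 2 ^ 7) = true := by
  intro k hk
  by_cases h0 : k < 6
  · exact P_f0 k (by omega) h0
  by_cases h1 : k < 12
  · exact P_f1 k (by omega) h1
  by_cases h2 : k < 18
  · exact P_f2 k (by omega) h2
  by_cases h3 : k < 23
  · exact P_f3 k (by omega) h3
  omega
theorem C_allk : ∀ k, k < 23 → allRange (guard nn D.closedP) 7 (k * 2 ^ 7) = true := by
  intro k hk
  by_cases h0 : k < 6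
  · exact C_f0 k (by omega) h0
  by_cases h1 : k < 12
  · exact C_f1 k (by omega) h1
  by_cases h2 : k < 18
  · exact C_f2 k (by omega) h2
  by_cases h3 : k < 23
  · exact C_f3 k (by omega) h3
  omega

theorem factP_all : ∀ u, u < NNpad → D.factP u = true := by
  intro u hu
  exact allBlocks_spec D.factP 7 102 F_allk u (by simpa [NNpad] using hu)

theorem permP_all : ∀ i, i < nn → D.permP i = true :=
  all_of_blocks nn D.permP 7 23 (by decide) P_allk

theorem closedP_all : ∀ i, i < nn → D.closedP i = true :=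
  all_of_blocks nn D.closedP 7 23 (by decide) C_allk

theorem valid : D.Valid where
  n_pos := by decide
  N_le := by decide
  cycW := fun _ => rfl
  cycR := fun _ => rfl
  cycL := fun _ => rfl
  cycA := fun _ => rfl
  cyc_ok := by decide
  ent_zero := fun x u h => below_of_le NN u _ (le_trans (by decide : NN ≤ NNpad) h)
  al_zero := fun k h => below_of_le NN k _ (le_trans (by decide : NN ≤ NNpad) h)
  fin_zero := by decide +kernel
  rowOf_zero := by decide +kernel
  permP_all := permP_all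
  factP_all := factP_all
  closedP_all := closedP_all

end Cfsg.Agent.Lib.Helper57.J3Mult.U4
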