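import Cfsg.Agent.Lib.Helper57.J3Mult.U4.ChkV0
import Cfsg.Agent.Lib.Helper57.J3Mult.U4.ChkV1
import Cfsg.Agent.Lib.Helper57.J3Mult.U4.Main

set_option autoImplicit false
set_option linter.unusedVariables false

namespace Cfsg.Agent.Lib.Helper57.J3Mult.U4

open Cfsg.Agent.Lib.Helper28.TC Cfsg.Agent.Lib.Helper28.TC2 Cfsg.Agent.Lib.Helper57.TCW
open Cfsg.Agent.Lib.Helper93.J3 Cfsg.Agent.Lib.Helper57.J3Mult

theorem V_allk : ∀ k, k < 23 → allRange (guard nn (M.vecP D)) 7 (k * 2 ^ 7) = true := by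
  intro k hk
  by_cases h0 : k < 12
  · exact V_f0 k (by omega) h0
  by_cases h1 : k < 23
  · exact V_f1 k (by omega) h1
  omega

theorem vecP_all : ∀ i, i < nn → M.vecP D i = true :=
  all_of_blocks nn (M.vecP D) 7 23 (by decide) V_allk

theorem prog_ok : ∀ s ∈ prog, s.ok = true := by decide +kernel

theorem matValid : M.Valid D where
  prog_ok := prog_ok
  out1 := by decide +kernel
  out2 := by decide +kernel
  inv1 := by decide +kernel
  inv2 := by decide +kernel
  rels := by decide +kernel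
  vecP_all := vecP_all

end Cfsg.Agent.Lib.Helper57.J3Mult.U4
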